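import Cfsg.Agent.Lib.KnownSimple.MultM.L216H.ValC0
import Cfsg.Agent.Lib.KnownSimple.MultC.ValH

/-!
# The relations between the relators
-/

set_option autoImplicit false

namespace Cfsg.Agent.Lib.KnownSimple.MultM.L216H

open Cfsg Cfsg.Spor Cfsg.Agent.Lib.Compute Cfsg.Agent.Lib.KnownSimple.PE Cfsg.Agent.Lib.KnownSimple.Leech
open Cfsg.Agent.Lib.KnownSimple Cfsg.Agent.Lib.KnownSimple.AutRigid Cfsg.Agent.Lib.KnownSimple.Pres
open Cfsg.Agent.Lib.KnownSimple.MultC


theorem hEF : ∀ e, e < n * d → chkEdgeG 4294967296 mskM cKK C.τ d n RL 19 5 15 (lookP parT) (lookP genT) (lg 0 peL) tv e = true := by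
  have h : allBelow fe 480 = true :=
    allBelow_of_pad (m := 1) (s := 1024) (by norm_num) (fun c hc => by
    interval_cases c
    · exact ve0
  )
  intro e he
  exact (allBelow_iff _ _).1 h e he
set_option maxHeartbeats 0 in
set_option maxRecDepth 100000 in
theorem hLn : allBelow (fun q => Nat.blt (((lg [] RL q).length + 1) * 65536) 4294967296) 19 = true := by decide +kernel
theorem hE : ∀ e, e < n * d → chkEdge C.τ d n RL 19 5 15 (lookP parT) (lookP genT) (lg 0 peL) (toV 4294967296 20 tv) e = true :=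
  chkEdge_of_G (by norm_num) (good_of_mask (W := 32) (b := 16) (by norm_num) (by norm_num) (by norm_num) (by decide +kernel) (by decide +kernel))
    (fun l i hl hi => C.hlt l i hl hi) (fun q _ => words_lg hokR q) (len_of_chk hLn) hEF
set_option maxRecDepth 100000 in
/-- The relations. -/
def rowsF : List (ℕ × ℕ × List ℤ) := [(0,8,[.ofNat 0,.ofNat 0,.ofNat 0,.ofNat 0,.ofNat 0,.negSucc 0,.ofNat 7,.negSucc 1,.ofNat 5,.ofNat 0,.ofNat 0,.ofNat 0,.ofNat 0,.ofNat 0,.ofNat 0,.ofNat 0,.ofNat 0,.ofNat 0,.ofNat 1,.ofNat 0]),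
  (1,11,[.ofNat 0,.ofNat 0,.ofNat 0,.ofNat 0,.ofNat 0,.ofNat 1,.negSucc 2,.ofNat 0,.ofNat 0,.ofNat 1,.ofNat 0,.ofNat 0,.ofNat 1,.ofNat 0,.ofNat 0,.ofNat 0,.ofNat 0,.ofNat 0,.ofNat 0,.ofNat 0]),
  (1,16,[.ofNat 1,.ofNat 2,.ofNat 1,.ofNat 0,.ofNat 0,.negSucc 0,.negSucc 0,.ofNat 0,.negSucc 0,.ofNat 0,.ofNat 0,.ofNat 0,.ofNat 0,.ofNat 0,.ofNat 0,.ofNat 0,.ofNat 0,.ofNat 0,.ofNat 0,.ofNat 0]),
  (1,18,[.negSucc 2,.negSucc 1,.ofNat 2,.ofNat 0,.ofNat 1,.negSucc 1,.negSucc 0,.ofNat 5,.ofNat 0,.ofNat 3,.ofNat 0,.ofNat 0,.negSucc 0,.ofNat 0,.ofNat 0,.negSucc 0,.ofNat 0,.negSucc 0,.ofNat 1,.ofNat 0]),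
  (2,13,[.ofNat 0,.ofNat 0,.ofNat 0,.ofNat 0,.ofNat 0,.ofNat 2,.ofNat 1,.ofNat 4,.ofNat 5,.ofNat 0,.ofNat 0,.ofNat 0,.ofNat 0,.ofNat 0,.ofNat 0,.ofNat 0,.ofNat 0,.ofNat 0,.negSucc 0,.ofNat 0]),
  (3,15,[.ofNat 0,.ofNat 0,.ofNat 0,.ofNat 0,.ofNat 0,.negSucc 1,.negSucc 1,.ofNat 0,.ofNat 0,.ofNat 1,.ofNat 0,.ofNat 0,.ofNat 0,.ofNat 0,.ofNat 0,.ofNat 0,.ofNat 0,.ofNat 0,.ofNat 0,.ofNat 0]),
  (5,0,[.ofNat 0,.ofNat 0,.ofNat 2,.ofNat 0,.ofNat 0,.ofNat 0,.ofNat 0,.ofNat 0,.ofNat 0,.ofNat 0,.ofNat 0,.ofNat 0,.ofNat 0,.ofNat 0,.ofNat 0,.ofNat 0,.ofNat 0,.ofNat 0,.ofNat 0,.ofNat 0]),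
  (6,13,[.ofNat 1,.ofNat 2,.ofNat 1,.ofNat 0,.ofNat 0,.ofNat 1,.ofNat 0,.ofNat 3,.ofNat 5,.ofNat 1,.ofNat 0,.ofNat 0,.ofNat 0,.ofNat 0,.ofNat 0,.ofNat 0,.ofNat 0,.ofNat 1,.negSucc 0,.negSucc 0]),
  (6,17,[.ofNat 0,.ofNat 0,.ofNat 0,.ofNat 0,.ofNat 0,.ofNat 0,.ofNat 0,.negSucc 2,.ofNat 0,.negSucc 0,.ofNat 0,.ofNat 0,.ofNat 0,.ofNat 0,.ofNat 0,.ofNat 1,.ofNat 0,.ofNat 0,.ofNat 0,.ofNat 0]),
  (12,9,[.negSucc 0,.ofNat 0,.ofNat 0,.ofNat 0,.ofNat 1,.negSucc 1,.ofNat 0,.ofNat 6,.ofNat 8,.ofNat 0,.ofNat 1,.ofNat 0,.ofNat 0,.ofNat 0,.ofNat 0,.ofNat 0,.ofNat 0,.ofNat 0,.ofNat 0,.ofNat 0]),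
  (12,10,[.ofNat 0,.ofNat 0,.ofNat 0,.ofNat 0,.ofNat 0,.negSucc 0,.ofNat 4,.ofNat 5,.ofNat 0,.ofNat 1,.ofNat 1,.ofNat 0,.negSucc 0,.ofNat 0,.ofNat 0,.negSucc 0,.ofNat 0,.ofNat 0,.ofNat 0,.ofNat 0]),
  (13,12,[.negSucc 1,.negSucc 4,.ofNat 3,.ofNat 1,.ofNat 2,.ofNat 5,.ofNat 2,.ofNat 2,.ofNat 2,.negSucc 0,.negSucc 0,.ofNat 0,.ofNat 0,.ofNat 0,.ofNat 0,.ofNat 0,.ofNat 0,.ofNat 1,.ofNat 1,.negSucc 0]),
  (17,6,[.negSucc 1,.negSucc 0,.negSucc 2,.negSucc 0,.negSucc 1,.ofNat 1,.negSucc 5,.negSucc 9,.ofNat 6,.negSucc 0,.ofNat 1,.ofNat 0,.ofNat 0,.ofNat 0,.ofNat 0,.ofNat 4,.ofNat 0,.negSucc 4,.ofNat 2,.ofNat 3]),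
  (36,15,[.ofNat 0,.ofNat 0,.ofNat 0,.ofNat 0,.ofNat 0,.ofNat 1,.ofNat 1,.ofNat 0,.ofNat 0,.negSucc 0,.ofNat 0,.ofNat 0,.ofNat 0,.ofNat 0,.ofNat 0,.ofNat 0,.ofNat 0,.ofNat 0,.ofNat 0,.ofNat 0]),
  (37,11,[.ofNat 0,.ofNat 0,.ofNat 0,.ofNat 0,.ofNat 0,.negSucc 1,.negSucc 1,.ofNat 0,.ofNat 0,.ofNat 1,.negSucc 0,.ofNat 0,.negSucc 0,.ofNat 0,.ofNat 0,.ofNat 2,.ofNat 1,.ofNat 0,.ofNat 0,.ofNat 0]),
  (43,17,[.negSucc 1,.ofNat 1,.ofNat 3,.ofNat 0,.ofNat 2,.ofNat 7,.negSucc 5,.ofNat 10,.ofNat 4,.ofNat 3,.negSucc 4,.ofNat 0,.ofNat 0,.ofNat 0,.ofNat 0,.ofNat 1,.ofNat 1,.ofNat 0,.negSucc 0,.negSucc 0]),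
  (64,11,[.ofNat 0,.ofNat 1,.negSucc 0,.ofNat 0,.ofNat 0,.ofNat 0,.ofNat 0,.ofNat 2,.ofNat 2,.ofNat 1,.ofNat 1,.ofNat 0,.ofNat 0,.ofNat 0,.ofNat 0,.ofNat 0,.ofNat 0,.ofNat 0,.negSucc 0,.ofNat 0]),
  (78,18,[.negSucc 4,.negSucc 2,.negSucc 1,.negSucc 1,.negSucc 1,.ofNat 2,.negSucc 2,.negSucc 0,.negSucc 6,.negSucc 1,.negSucc 2,.ofNat 0,.negSucc 0,.ofNat 0,.ofNat 0,.ofNat 4,.ofNat 0,.negSucc 3,.ofNat 2,.ofNat 4]),
  (99,12,[.ofNat 7,.ofNat 0,.ofNat 0,.ofNat 0,.negSucc 2,.negSucc 2,.negSucc 13,.negSucc 9,.negSucc 1,.ofNat 3,.ofNat 0,.ofNat 0,.ofNat 5,.ofNat 0,.ofNat 0,.negSucc 1,.negSucc 0,.ofNat 3,.ofNat 1,.negSucc 0]),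
  (111,16,[.ofNat 3,.ofNat 4,.ofNat 1,.ofNat 1,.ofNat 2,.ofNat 1,.ofNat 0,.ofNat 5,.ofNat 1,.ofNat 4,.ofNat 2,.ofNat 0,.ofNat 2,.ofNat 0,.ofNat 0,.negSucc 5,.negSucc 0,.ofNat 5,.negSucc 1,.negSucc 2]),
  (115,11,[.ofNat 0,.ofNat 0,.ofNat 1,.ofNat 0,.ofNat 1,.negSucc 0,.ofNat 1,.ofNat 6,.negSucc 7,.ofNat 4,.negSucc 0,.ofNat 0,.negSucc 0,.ofNat 0,.ofNat 0,.negSucc 2,.ofNat 0,.ofNat 4,.ofNat 1,.negSucc 0])]
set_option maxRecDepth 100000 in
/-- The relations, packed. -/
def rowsP : List (ℕ × ℕ × ℕ × ℕ) := [(0,8,247330401473104534060502521019647190035131349101211839914063056092897225106531867170316401061243623950043858006993301133988556180611364410416836811587003172324757586038489088,53919893334301279590795531811370164265477973677797427981863153041408),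
  (1,11,39402006196394479212279040100640937041489525912620828916095114244347639423931889231772933916610791420838817298382848,18831305206160042291507368269622999248307066333392103538688),
  (1,16,18446744082299486209,115792089237316195429848086745536090254436677007051915288276222472033096695808),
  (1,18,247330401473104534060502521019647190035131349101211839914063056092897225106531867170317893030952274349524272372493915555070639737834578691555602653693148849538145469513859072,57586096570152913703096641448696560024913720344097101215634663951308771223554345313514172260220034038307248329678543460192428444838407540205723420556652795131854851),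
  (2,13,578960446294420763792734585960417283652926041282366433968985131447755988795392,247330401473104534060502521019647190035131349101211839914063056092897225106531867170316401061243044989597671426016139339351365034306751209967546155101893167916606772148699136),
  (3,15,497323236409786642155382248146820840100456150797347717440463976893159497012533375533056,12554203473696364802333384682822702497637276928239934111744),
  (5,0,36893488147419103232,0),
  (6,13,57586096570152913699974892898380567793532123114264532903689671329431521032595542063320709529218225814584253783793596815814027892946034817934499798179333245432233985,1062275985880864598852280947165439775678833425489195195500100116314870175814601710584856871700774972399021703962090673456709298014656779513125791167500720858989555709587393210212155392),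
  (6,17,3121748550315992231381597229793166305748598142664971150859156959625371738819765620120306103063491971159826931121406622895447975679288285306290176,497323236409786642236262088148272759484457196058406609461375410160781214455844206280704),
  (12,9,2135987035920910083321358420229841357994176241194158123295659551556088043095008031580320553762816,2923003274661805836407369665432566039311865085953),
  (12,10,2135987036418233318804808348459734096110386968371990719234830636323700090450912331218869651767296,3121748550315992231381597229832568311944992621877250190959300573430451478090231066788254396467739154432961472635739092835165607603114569229139968),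
  (13,12,247330401530690630630655434719622082933511916894743963028327588996586896435963388202911445801326997355906002949819320992913517282599412601366723101400211441024430788914970624,1062275985633534197379176413104937254659186235454063846398888276400807119721704485478327140517494989571097463780841326965055908200667871587739784346858437387590336341717821955000762370),
  (17,6,3186827957395263395083738307435816806029340080633718206324614897949720136573902299218700768522481064884406643626195004873880123247305351631428634009438977180243415965899816096510246912,287930482850764568499874464491902838967660615571322664518448356647157605162975721023655013697291439839309794270393796734271580266877085182621249647283645522917720066),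
  (36,15,6277101736848182401166692341411351248818638464119967055872,497323236409786642155382248146820840100456150797347717440463976893159497012533375533056),
  (37,11,13407807936186094200206009460969040587065698432089589663053503745440575272560700241083560920655662454657116256656937260814007592579735680802022752994197504,39402006196394479214415027136064523887474760976634998782563552130076070906246585603919308683163193467757830011355136),
  (43,17,13407807933064345649890017229587443357272532126340991520388532594582412959408611243905324929280015783611816850092450298258042099009213256248186903547871232,1062275985880864598852280947165439775678833425489195195500100116314870175814601710584867551635954576949433679070621521217282349199878975097060109390276371203616955526470174804853915650),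
  (64,11,2135987036418233319036392526853486646930968612063818766624968555941239119597796360013533237215232,247330401473104534060502521019647190035131349101211839914063056092897225106531867170316401061243044989597671426016139339351365034306751209967546155101893186363350845858250752),
  (78,18,4249103943028797592462914720540754060688526316087782052723503174350527256295606784697023637065903715312102212824446413455286137792178358791532244636359254024705893837799551749641469952,230344386280611654799899571593522271174128492457097533620955079796944771131589079950860778050817184926898651651927848065103548350367406741888448176443445068934676485),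
  (99,12,247330401645862823770961262119571868730273052481808209257053664834948211490887825468603745320228835392265873720657284237220097384347826722707919986364924207556899804264005639,1062275985633534197379176413118345062595372329654269855859857316987872818153794075141378508275898649287103181011113151800958280836914694123327363321513589766262523355817727279629336576),
  (111,16,287930482850764568499874464491902838967660615571401468530841145605586435217249342041139308371260278500081386883942927346056333302465555959041523058134809435468464131,3186827957395263395083738307449224613965526174833924215785583938536785835005991888881752136280885221923647844306394816963000494750689957190216069930116810042051408384867736219331592192),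
  (115,11,247330401703448920341114175819546761628653620275340332371121187707655910424257951300698569314523567264685666600764686428088540077989490116734448106558116610776635886207500288,1062275985633534197379176413104937254668551481105011823093033068090226020645146674385534333010172106740543175286642832419400016550302563731604428493896874386751820401854563845029232640)]
set_option maxHeartbeats 0 in
set_option maxRecDepth 100000 in
theorem hFm : (rowsP.map fun x => (x.1, x.2.1, decV 4294967296 20 x.2.2.1 x.2.2.2)) = rowsF := by decide +kernel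
set_option maxHeartbeats 0 in
set_option maxRecDepth 100000 in
theorem hFb : (rowsP.all fun x => bcond (maskOK mskM cKK x.2.2.1) (maskOK mskM cKK x.2.2.2) false) = true := by decide +kernel
set_option maxHeartbeats 0 in
set_option maxRecDepth 100000 in
theorem hFc : (rowsP.all (chkRowG τ d n RL 19 (n * d) 358 tv)) = true := by decide +kernel
theorem hF : ∀ x ∈ rowsF, chkRow C.τ d n RL 19 (n * d) 358 (toV 4294967296 20 tv) x = true :=
  chkRow_of_G (by norm_num) (good_of_mask (W := 32) (b := 16) (by norm_num) (by norm_num) (by norm_num) (by decide +kernel) (by decide +kernel))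
    (fun l i hl hi => C.hlt l i hl hi) (fun q _ => words_lg hokR q) (len_of_chk hLn) hEF rowsP rowsF hFm hFb hFc
set_option maxRecDepth 100000 in
/-- A combination. -/
def cb0 : List (ℕ × ℤ) := [(1,.ofNat 285),(2,.negSucc 85),(3,.ofNat 121),(4,.ofNat 133),(5,.negSucc 365),(7,.negSucc 86),(8,.ofNat 40),(10,.ofNat 70),(11,.negSucc 107),(13,.ofNat 284),(14,.ofNat 327),(15,.negSucc 39),(16,.negSucc 343),(18,.negSucc 11),(19,.ofNat 108),(20,.negSucc 76)]
set_option maxHeartbeats 0 in
set_option maxRecDepth 100000 in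
theorem hcb0 : chkComb 5 15 rowsF 0 0 (0) cb0 = true := by decide +kernel
set_option maxRecDepth 100000 in
/-- A combination. -/
def cb1 : List (ℕ × ℤ) := [(1,.negSucc 284),(2,.ofNat 86),(3,.negSucc 120),(4,.negSucc 132),(5,.ofNat 365),(7,.ofNat 87),(8,.negSucc 39),(10,.negSucc 69),(11,.ofNat 108),(13,.negSucc 284),(14,.negSucc 326),(15,.ofNat 40),(16,.ofNat 344),(18,.ofNat 12),(19,.negSucc 107),(20,.ofNat 77)]
set_option maxHeartbeats 0 in
set_option maxRecDepth 100000 in
theorem hcb1 : chkComb 5 15 rowsF 0 1 (0) cb1 = true := by decide +kernel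
set_option maxRecDepth 100000 in
/-- A combination. -/
def cb2 : List (ℕ × ℤ) := [(1,.negSucc 244),(2,.ofNat 76),(3,.negSucc 104),(4,.negSucc 114),(5,.ofNat 318),(6,.negSucc 1),(7,.ofNat 77),(8,.negSucc 35),(10,.negSucc 60),(11,.ofNat 94),(13,.negSucc 247),(14,.negSucc 283),(15,.ofNat 34),(16,.ofNat 296),(18,.ofNat 10),(19,.negSucc 93),(20,.ofNat 67)]
set_option maxHeartbeats 0 in
set_option maxRecDepth 100000 in
theorem hcb2 : chkComb 5 15 rowsF 0 2 (0) cb2 = true := by decide +kernel
set_option maxRecDepth 100000 in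
/-- A combination. -/
def cb3 : List (ℕ × ℤ) := [(1,.negSucc 198),(2,.ofNat 64),(3,.negSucc 84),(4,.negSucc 91),(5,.ofNat 261),(6,.negSucc 3),(7,.ofNat 63),(8,.negSucc 27),(10,.negSucc 51),(11,.ofNat 76),(13,.negSucc 204),(14,.negSucc 236),(15,.ofNat 28),(16,.ofNat 242),(17,.negSucc 1),(18,.ofNat 8),(19,.negSucc 79),(20,.ofNat 57)]
set_option maxHeartbeats 0 in
set_option maxRecDepth 100000 in
theorem hcb3 : chkComb 5 15 rowsF 0 3 (0) cb3 = true := by decide +kernel
set_option maxRecDepth 100000 in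
/-- A combination. -/
def cb4 : List (ℕ × ℤ) := [(5,.negSucc 0),(13,.negSucc 1)]
set_option maxHeartbeats 0 in
set_option maxRecDepth 100000 in
theorem hcb4 : chkComb 5 15 rowsF 0 4 (0) cb4 = true := by decide +kernel
set_option maxRecDepth 100000 in
/-- A combination. -/
def cb5 : List (ℕ × ℤ) := [(1,.negSucc 330),(2,.ofNat 107),(3,.negSucc 142),(4,.negSucc 155),(5,.ofNat 435),(6,.negSucc 6),(7,.ofNat 108),(8,.negSucc 49),(10,.negSucc 83),(11,.ofNat 129),(13,.negSucc 342),(14,.negSucc 388),(15,.ofNat 45),(16,.ofNat 400),(18,.ofNat 13),(19,.negSucc 128),(20,.ofNat 92)]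
set_option maxHeartbeats 0 in
set_option maxRecDepth 100000 in
theorem hcb5 : chkComb 5 15 rowsF 0 5 (0) cb5 = true := by decide +kernel
set_option maxRecDepth 100000 in
/-- A combination. -/
def cb6 : List (ℕ × ℤ) := [(1,.ofNat 201),(2,.negSucc 23),(3,.ofNat 80),(4,.ofNat 100),(5,.negSucc 205),(6,.negSucc 36),(7,.negSucc 39),(8,.ofNat 28),(10,.ofNat 22),(11,.negSucc 69),(12,.negSucc 0),(13,.ofNat 136),(14,.ofNat 152),(15,.negSucc 27),(16,.negSucc 225),(17,.negSucc 16),(18,.negSucc 11),(19,.ofNat 35),(20,.negSucc 25)]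
set_option maxHeartbeats 0 in
set_option maxRecDepth 100000 in
theorem hcb6 : chkComb 5 15 rowsF 0 6 (0) cb6 = true := by decide +kernel
set_option maxRecDepth 100000 in
/-- A combination. -/
def cb7 : List (ℕ × ℤ) := [(1,.negSucc 1138),(2,.ofNat 349),(3,.negSucc 486),(4,.negSucc 533),(5,.ofNat 1472),(6,.negSucc 4),(7,.ofNat 354),(8,.negSucc 163),(10,.negSucc 281),(11,.ofNat 435),(13,.negSucc 1148),(14,.negSucc 1315),(15,.ofNat 159),(16,.ofNat 1376),(18,.ofNat 47),(19,.negSucc 434),(20,.ofNat 310)]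
set_option maxHeartbeats 0 in
set_option maxRecDepth 100000 in
theorem hcb7 : chkComb 5 15 rowsF 0 7 (0) cb7 = true := by decide +kernel
set_option maxRecDepth 100000 in
/-- A combination. -/
def cb8 : List (ℕ × ℤ) := [(0,.negSucc 0),(1,.negSucc 3629),(2,.ofNat 1125),(3,.negSucc 1544),(4,.negSucc 1687),(5,.ofNat 4695),(6,.negSucc 29),(7,.ofNat 1125),(8,.negSucc 509),(10,.negSucc 914),(11,.ofNat 1380),(13,.negSucc 3674),(14,.negSucc 4229),(15,.ofNat 510),(16,.ofNat 4395),(17,.negSucc 14),(18,.ofNat 150),(19,.negSucc 1409),(20,.ofNat 1005)]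
set_option maxHeartbeats 0 in
set_option maxRecDepth 100000 in
theorem hcb8 : chkComb 5 15 rowsF 0 8 (0) cb8 = true := by decide +kernel
set_option maxRecDepth 100000 in
/-- A combination. -/
def cb9 : List (ℕ × ℤ) := [(1,.negSucc 5471),(2,.ofNat 1710),(3,.negSucc 2335),(4,.negSucc 2550),(5,.ofNat 7106),(6,.negSucc 58),(7,.ofNat 1713),(8,.negSucc 780),(9,.negSucc 0),(10,.negSucc 1379),(11,.ofNat 2091),(13,.negSucc 5554),(14,.negSucc 6383),(15,.ofNat 764),(16,.ofNat 6622),(17,.negSucc 16),(18,.ofNat 224),(19,.negSucc 2124),(20,.ofNat 1515)]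
set_option maxHeartbeats 0 in
set_option maxRecDepth 100000 in
theorem hcb9 : chkComb 5 15 rowsF 0 9 (0) cb9 = true := by decide +kernel
set_option maxRecDepth 100000 in
/-- A combination. -/
def cb10 : List (ℕ × ℤ) := [(1,.negSucc 734),(2,.ofNat 228),(3,.negSucc 314),(4,.negSucc 344),(5,.ofNat 953),(6,.negSucc 5),(7,.ofNat 231),(8,.negSucc 106),(10,.negSucc 182),(11,.ofNat 282),(13,.negSucc 745),(14,.negSucc 851),(15,.ofNat 102),(16,.ofNat 888),(18,.ofNat 30),(19,.negSucc 281),(20,.ofNat 201)]
set_option maxHeartbeats 0 in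
set_option maxRecDepth 100000 in
theorem hcb10 : chkComb 5 15 rowsF 0 10 (0) cb10 = true := by decide +kernel
set_option maxRecDepth 100000 in
/-- A combination. -/
def cb11 : List (ℕ × ℤ) := [(2,.ofNat 5),(3,.negSucc 2),(4,.negSucc 1),(5,.ofNat 10),(6,.negSucc 4),(7,.ofNat 6),(8,.negSucc 3),(10,.negSucc 1),(11,.ofNat 3),(13,.negSucc 11),(14,.negSucc 7),(15,.negSucc 0),(18,.negSucc 0),(19,.negSucc 2),(20,.ofNat 2)]
set_option maxHeartbeats 0 in
set_option maxRecDepth 100000 in
theorem hcb11 : chkComb 5 15 rowsF 0 11 (0) cb11 = true := by decide +kernel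
set_option maxRecDepth 100000 in
/-- A combination. -/
def cb12 : List (ℕ × ℤ) := [(1,.ofNat 11),(2,.ofNat 7),(3,.ofNat 1),(4,.ofNat 5),(5,.ofNat 5),(6,.negSucc 9),(7,.ofNat 5),(8,.negSucc 1),(10,.negSucc 4),(11,.negSucc 0),(13,.negSucc 8),(14,.negSucc 9),(15,.negSucc 1),(16,.negSucc 8),(17,.negSucc 3),(18,.negSucc 1),(19,.negSucc 6),(20,.ofNat 5)]
set_option maxHeartbeats 0 in
set_option maxRecDepth 100000 in
theorem hcb12 : chkComb 5 15 rowsF 0 12 (0) cb12 = true := by decide +kernel
set_option maxRecDepth 100000 in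
/-- A combination. -/
def cb13 : List (ℕ × ℤ) := [(1,.negSucc 844),(2,.ofNat 269),(3,.negSucc 361),(4,.negSucc 393),(5,.ofNat 1105),(6,.negSucc 13),(7,.ofNat 268),(8,.negSucc 121),(10,.negSucc 216),(11,.ofNat 324),(13,.negSucc 866),(14,.negSucc 996),(15,.ofNat 118),(16,.ofNat 1025),(17,.negSucc 4),(18,.ofNat 34),(19,.negSucc 333),(20,.ofNat 238)]
set_option maxHeartbeats 0 in
set_option maxRecDepth 100000 in
theorem hcb13 : chkComb 5 15 rowsF 0 13 (0) cb13 = true := by decide +kernel
set_option maxRecDepth 100000 in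
/-- A combination. -/
def cb14 : List (ℕ × ℤ) := [(1,.ofNat 57),(2,.negSucc 3),(3,.ofNat 21),(4,.ofNat 29),(5,.negSucc 52),(6,.negSucc 11),(7,.negSucc 9),(8,.ofNat 6),(10,.ofNat 4),(11,.negSucc 18),(13,.ofNat 32),(14,.ofNat 37),(15,.negSucc 7),(16,.negSucc 62),(17,.negSucc 5),(18,.negSucc 3),(19,.ofNat 7),(20,.negSucc 4)]
set_option maxHeartbeats 0 in
set_option maxRecDepth 100000 in
theorem hcb14 : chkComb 5 15 rowsF 0 14 (0) cb14 = true := by decide +kernel

theorem hcert : ∀ q, q < 15 → ∃ (a : ℤ) (L : List (ℕ × ℤ)), chkComb 5 15 rowsF 0 q a L = true ∧ (q = 0 → a = 1 - ((1 : ℕ) : ℤ)) := by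
  intro q hq
  interval_cases q
  · exact ⟨0, cb0, hcb0, by norm_num⟩
  · exact ⟨0, cb1, hcb1, by norm_num⟩
  · exact ⟨0, cb2, hcb2, by norm_num⟩
  · exact ⟨0, cb3, hcb3, by norm_num⟩
  · exact ⟨0, cb4, hcb4, by norm_num⟩
  · exact ⟨0, cb5, hcb5, by norm_num⟩
  · exact ⟨0, cb6, hcb6, by norm_num⟩
  · exact ⟨0, cb7, hcb7, by norm_num⟩
  · exact ⟨0, cb8, hcb8, by norm_num⟩
  · exact ⟨0, cb9, hcb9, by norm_num⟩
  · exact ⟨0, cb10, hcb10, by norm_num⟩
  · exact ⟨0, cb11, hcb11, by norm_num⟩
  · exact ⟨0, cb12, hcb12, by norm_num⟩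
  · exact ⟨0, cb13, hcb13, by norm_num⟩
  · exact ⟨0, cb14, hcb14, by norm_num⟩


end Cfsg.Agent.Lib.KnownSimple.MultM.L216H
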